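/-
Every even permutation is `a b a⁻¹ b⁻¹` where `b` is an even permutation with two cycles of length two.
-/
import Mathlib.GroupTheory.Perm.Cycle.Type
import Mathlib.GroupTheory.SpecificGroups.Alternating
import Mathlib.Tactic.Linarith
import Mathlib.Tactic.IntervalCases

set_option autoImplicit false
set_option linter.style.haveILetI false

namespace Cfsg.Agent.AltOre

open Equiv Equiv.Perm

variable {α : Type*} [Fintype α] [DecidableEq α]

theorem cycleType_invol {r : Perm α} (hr : r * r = 1) :
    ∃ T, r.cycleType = Multiset.replicate T 2 ∧ r.support.card = 2 * T ∧ sign r = (-1) ^ T := by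
  refine ⟨r.cycleType.card, ?_⟩
  have h : ∀ k ∈ r.cycleType, k = 2 := fun k hk => by
    have h1 := dvd_of_mem_cycleType hk
    have h2 := two_le_of_mem_cycleType hk
    have h3 : orderOf r ∣ 2 := orderOf_dvd_of_pow_eq_one (by rw [pow_two, hr])
    have := Nat.le_of_dvd (by norm_num) (h1.trans h3)
    omega
  have e := Multiset.eq_replicate_of_mem h
  refine ⟨e, ?_, ?_⟩
  · rw [← sum_cycleType, e, Multiset.sum_replicate, smul_eq_mul, Multiset.card_replicate, mul_comm]
  · rw [sign_of_cycleType, e, Multiset.sum_replicate, smul_eq_mul, Multiset.card_replicate, pow_add,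
      pow_mul', pow_two, Int.units_mul_self, one_pow, one_mul]

/-- An inverting involution with the size of the supports controlled by the sign. -/
def Good (x r : Perm α) : Prop :=
  r * r = 1 ∧ x * r * (x * r) = 1 ∧ r.support ⊆ x.support ∧
    (x ≠ 1 → ∃ f, x f ≠ f ∧ (r f = f ∨ (x * r) f = f))

theorem Good.flip {x r : Perm α} (h : Good x r) :
    Good x (r * x) ∧ x * (r * x) = r ∧ (r * x).support.card = (x * r).support.card := by
  obtain ⟨h1, h2, h3, h4⟩ := h
  have hr : r⁻¹ = r := inv_eq_of_mul_eq_one_left h1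
  have e : x * (r * x) = r := by
    rw [← mul_assoc]
    calc x * r * x = x * r * (x * r) * r⁻¹ := by group
      _ = r := by rw [h2, one_mul, hr]
  refine ⟨⟨?_, by rw [e]; exact h1, ?_, fun hx => ?_⟩, e, ?_⟩
  · rw [mul_assoc r x, e, h1]
  · exact (support_mul_le r x).trans (sup_le h3 le_rfl)
  · obtain ⟨f, hf, hor⟩ := h4 hx
    rcases hor with hor | hor
    · exact ⟨f, hf, Or.inr (by rw [e]; exact hor)⟩
    · refine ⟨r f, ?_, Or.inl ?_⟩
      · intro hxf
        rw [mul_apply, hxf] at hor
        rw [hor] at hxf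
        exact hf hxf
      · rw [mul_apply]
        rw [mul_apply] at hor
        rw [hor]
  · rw [show r * x = r * (x * r) * r⁻¹ by group, card_support_conj]

/-- The sizes. -/
def Sized (x r : Perm α) : Prop :=
  (sign x = 1 → r.support.card = (x * r).support.card) ∧
    (sign x = -1 → (x * r).support.card = r.support.card + 2)

theorem cycle_good {c : Perm α} (hc : c.IsCycle) : ∃ r, Good c r ∧ Sized c r := by
  classical
  obtain ⟨a, ha, -⟩ := id hc
  set m := c.support.card with hm
  have hord : orderOf c = m := hc.orderOf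
  have hm2 : 2 ≤ m := hc.two_le_card_support
  have hsame : ∀ y, c y ≠ y → ∃ i : ℤ, (c ^ i) a = y := fun y hy => hc.sameCycle ha hy
  have hkey : ∀ i : ℤ, (c ^ i) a = a ↔ (m : ℤ) ∣ i := by
    intro i
    rw [← hord, orderOf_dvd_iff_zpow_eq_one]
    refine ⟨fun h => ?_, fun h => by rw [h]; rfl⟩
    obtain ⟨j, hj⟩ : ∃ j : ℕ, c ^ j = c ^ i := ⟨(i % orderOf c).toNat, by
      rw [← zpow_natCast, Int.toNat_of_nonneg (Int.emod_nonneg _ (by omega)), zpow_mod_orderOf]⟩
    rw [← hj] at h ⊢
    exact (hc.pow_eq_one_iff' ha).2 h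
  have hsupp : ∀ i : ℤ, c ((c ^ i) a) ≠ (c ^ i) a := fun i => by
    rw [← mem_support, zpow_apply_mem_support, mem_support]; exact ha
  let g : α → α := fun y => if h : c y ≠ y then (c ^ (-(hsame y h).choose)) a else y
  have hg : ∀ i : ℤ, g ((c ^ i) a) = (c ^ (-i)) a := by
    intro i
    simp only [g]
    rw [dif_pos (hsupp i)]
    set j := (hsame _ (hsupp i)).choose with hj
    have hspec : (c ^ j) a = (c ^ i) a := (hsame _ (hsupp i)).choose_spec
    have h1 : (m : ℤ) ∣ j - i := (hkey _).1 (by
      rw [show j - i = -i + j by ring, zpow_add, mul_apply, hspec, ← mul_apply, ← zpow_add,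
        neg_add_cancel, zpow_zero, one_apply])
    have h2 : (c ^ (-j)) = (c ^ (-i)) := by
      rw [zpow_eq_zpow_iff_modEq, hord, Int.modEq_iff_dvd]
      rw [show -i - -j = j - i by ring]
      exact h1
    rw [h2]
  have hg0 : ∀ y, c y = y → g y = y := fun y hy => dif_neg (not_not.2 hy)
  have hinv : Function.Involutive g := by
    intro y
    by_cases hy : c y = y
    · rw [hg0 y hy, hg0 y hy]
    · obtain ⟨i, rfl⟩ := hsame y hy
      rw [hg, hg, neg_neg]
  set r : Perm α := Function.Involutive.toPerm g hinv with hr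
  have hrr : r * r = 1 := Equiv.ext fun y => hinv y
  have hra : ∀ i : ℤ, r ((c ^ i) a) = (c ^ (-i)) a := hg
  have hr0 : ∀ y, c y = y → r y = y := hg0
  have hsa : ∀ i : ℤ, (c * r) ((c ^ i) a) = (c ^ (1 - i)) a := fun i => by
    rw [mul_apply, hra, sub_eq_add_neg, zpow_add, mul_apply, zpow_one]
  have hs0 : ∀ y, c y = y → (c * r) y = y := fun y hy => by rw [mul_apply, hr0 y hy, hy]
  have hss : c * r * (c * r) = 1 := by
    refine Equiv.ext fun y => ?_
    rw [mul_apply, one_apply]
    by_cases hy : c y = y
    · rw [hs0 y hy, hs0 y hy]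
    · obtain ⟨i, rfl⟩ := hsame y hy
      rw [hsa, hsa, sub_sub_cancel]
  have hsub : r.support ⊆ c.support := fun y hy => by
    rw [mem_support] at hy ⊢
    exact fun h => hy (hr0 y h)
  have hssub : (c * r).support ⊆ c.support := fun y hy => by
    rw [mem_support] at hy ⊢
    exact fun h => hy (hs0 y h)
  have hfixr : ∀ i : ℤ, r ((c ^ i) a) = (c ^ i) a ↔ (m : ℤ) ∣ 2 * i := fun i => by
    rw [hra, ← hkey]
    constructor
    · intro h
      rw [two_mul, zpow_add, mul_apply, ← h, ← mul_apply, ← zpow_add, add_neg_cancel, zpow_zero, one_apply]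
    · intro h
      apply (c ^ i).injective
      rw [← mul_apply, ← mul_apply, ← zpow_add, ← zpow_add, add_neg_cancel, zpow_zero, one_apply, ← two_mul, h]
  have hfixs : ∀ i : ℤ, (c * r) ((c ^ i) a) = (c ^ i) a ↔ (m : ℤ) ∣ 2 * i - 1 := fun i => by
    rw [hsa, ← hkey]
    constructor
    · intro h
      rw [show 2 * i - 1 = (i - 1) + i by ring, zpow_add, mul_apply, ← h, ← mul_apply, ← zpow_add,
        show i - 1 + (1 - i) = 0 by ring, zpow_zero, one_apply]
    · intro h
      apply (c ^ (i - 1)).injective
      rw [← mul_apply, ← mul_apply, ← zpow_add, ← zpow_add, show i - 1 + (1 - i) = 0 by ring, zpow_zero,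
        one_apply, show i - 1 + i = 2 * i - 1 by ring, h]
  refine ⟨r, ⟨hrr, hss, hsub, fun _ => ⟨a, ha, Or.inl (by simpa using hra 0)⟩⟩, ?_⟩
  have hsame' : ∀ y, c y ≠ y → ∃ i : ℕ, i < m ∧ (c ^ (i : ℤ)) a = y := by
    intro y hy
    obtain ⟨i, rfl⟩ := hsame y hy
    refine ⟨(i % m).toNat, ?_, ?_⟩
    · have := Int.emod_lt_of_pos i (show (0 : ℤ) < m by omega); omega
    · rw [Int.toNat_of_nonneg (Int.emod_nonneg _ (by omega)), ← hord, zpow_mod_orderOf]
  have hsign : sign c = -(-1) ^ m := hc.sign
  rcases Nat.even_or_odd' m with ⟨k, hk | hk⟩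
  · have hs1 : sign c = -1 := by rw [hsign, hk, pow_mul, neg_one_sq, one_pow]
    refine ⟨fun h => absurd (hs1.symm.trans h) (by decide), fun _ => ?_⟩
    have e1 : r.support = c.support \ {a, (c ^ (k : ℤ)) a} := by
      ext y
      rw [Finset.mem_sdiff, Finset.mem_insert, Finset.mem_singleton, mem_support, mem_support]
      constructor
      · intro hy
        refine ⟨fun h => hy (hr0 y h), fun h => hy ?_⟩
        rcases h with rfl | rfl
        · simpa using hra 0
        · rw [hfixr, hk]; push_cast; exact dvd_refl _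
      · rintro ⟨hy, hne⟩ hfix
        obtain ⟨i, hi, rfl⟩ := hsame' y hy
        rw [hfixr, hk] at hfix
        push_cast at hfix
        obtain ⟨t, ht⟩ := hfix
        have ht' : (i : ℤ) = k * t := by linarith
        have h1 : 0 ≤ t := by nlinarith
        have h2 : t < 2 := by nlinarith
        interval_cases t
        · exact hne (Or.inl (by rw [show ((i : ℕ) : ℤ) = 0 by linarith]; simp))
        · exact hne (Or.inr (by rw [show ((i : ℕ) : ℤ) = k by linarith]))
    have e2 : (c * r).support = c.support := by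
      refine Finset.Subset.antisymm hssub fun y hy => ?_
      rw [mem_support] at hy ⊢
      obtain ⟨i, -, rfl⟩ := hsame' y hy
      rw [Ne, hfixs, hk]
      push_cast
      rintro ⟨t, ht⟩
      rw [mul_assoc] at ht
      generalize (k : ℤ) * t = z at ht
      omega
    have hne : a ≠ (c ^ (k : ℤ)) a := fun h => by
      have := (hkey k).1 h.symm
      obtain ⟨t, ht⟩ := this
      rw [hk] at ht
      push_cast at ht
      have : t = 0 ∨ 1 ≤ t ∨ t ≤ -1 := by omega
      rcases this with rfl | h1 | h1 <;> nlinarith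
    have hsubset : ({a, (c ^ (k : ℤ)) a} : Finset α) ⊆ c.support := by
      intro y hy
      rw [Finset.mem_insert, Finset.mem_singleton] at hy
      rcases hy with rfl | rfl
      · exact mem_support.2 ha
      · exact mem_support.2 (hsupp _)
    rw [e2, e1, Finset.card_sdiff_of_subset hsubset, Finset.card_pair hne]
    omega
  · have hs1 : sign c = 1 := by
      rw [hsign, hk, pow_succ, pow_mul, neg_one_sq, one_pow, one_mul, neg_neg]
    refine ⟨fun _ => ?_, fun h => absurd (hs1.symm.trans h) (by decide)⟩
    have e1 : r.support = c.support \ {a} := by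
      ext y
      rw [Finset.mem_sdiff, Finset.mem_singleton, mem_support, mem_support]
      constructor
      · intro hy
        refine ⟨fun h => hy (hr0 y h), ?_⟩
        rintro rfl
        exact hy (by simpa using hra 0)
      · rintro ⟨hy, hne⟩ hfix
        obtain ⟨i, hi, rfl⟩ := hsame' y hy
        rw [hfixr, hk] at hfix
        push_cast at hfix
        obtain ⟨t, ht⟩ := hfix
        have h1 : 0 ≤ t := by nlinarith
        have h2 : t < 2 := by nlinarith
        interval_cases t
        · exact hne (by rw [show ((i : ℕ) : ℤ) = 0 by linarith]; simp)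
        · omega
    have e2 : (c * r).support = c.support \ {(c ^ ((k + 1 : ℕ) : ℤ)) a} := by
      ext y
      rw [Finset.mem_sdiff, Finset.mem_singleton, mem_support, mem_support]
      constructor
      · intro hy
        refine ⟨fun h => hy (hs0 y h), ?_⟩
        rintro rfl
        apply hy
        rw [hfixs, hk]
        exact ⟨1, by push_cast; ring⟩
      · rintro ⟨hy, hne⟩ hfix
        obtain ⟨i, hi, rfl⟩ := hsame' y hy
        rw [hfixs, hk] at hfix
        push_cast at hfix
        obtain ⟨t, ht⟩ := hfix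
        have h1 : 0 ≤ t := by nlinarith
        have h2 : t < 2 := by nlinarith
        interval_cases t
        · omega
        · exact hne (by rw [show (i : ℤ) = ((k + 1 : ℕ) : ℤ) by push_cast; linarith])
    rw [e1, e2, Finset.card_sdiff_of_subset (Finset.singleton_subset_iff.2 (mem_support.2 ha)),
      Finset.card_sdiff_of_subset (Finset.singleton_subset_iff.2 (mem_support.2 (hsupp _))), Finset.card_singleton, Finset.card_singleton]

/-- Every permutation has such an involution. -/
theorem exists_good (x : Perm α) : ∃ r, Good x r ∧ Sized x r := by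
  induction x using Equiv.Perm.cycle_induction_on with
  | base_one =>
    exact ⟨1, ⟨one_mul 1, by simp, by simp, fun h => absurd rfl h⟩, fun _ => by simp,
      fun h => absurd h (by rw [map_one]; decide)⟩
  | base_cycles c hc => exact cycle_good hc
  | induction_disjoint c d hcd hc ihc ihd =>
    obtain ⟨r, hr, hsr⟩ := ihc
    obtain ⟨q, hq, hsq⟩ := ihd
    have key : ∀ q : Perm α, Good d q → Good (c * d) (r * q) ∧
        (r * q).support.card = r.support.card + q.support.card ∧
        (c * d * (r * q)).support.card = (c * r).support.card + (d * q).support.card := by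
      intro q hq
      obtain ⟨h1, h2, h3, h4⟩ := hr
      obtain ⟨g1, g2, g3, g4⟩ := hq
      have hcd' := disjoint_iff_disjoint_support.1 hcd
      have hrq : Disjoint r q := disjoint_iff_disjoint_support.2 (hcd'.mono h3 g3)
      have hcq : Disjoint c q := disjoint_iff_disjoint_support.2 (hcd'.mono le_rfl g3)
      have hrd : Disjoint r d := disjoint_iff_disjoint_support.2 (hcd'.mono h3 le_rfl)
      have hs : Disjoint (c * r) (d * q) := (hcd.mul_left hrd).mul_right (hcq.mul_left hrq)
      have e : c * d * (r * q) = c * r * (d * q) := by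
        rw [mul_assoc, ← mul_assoc d r, ← hrd.commute.eq, mul_assoc r d, ← mul_assoc]
      refine ⟨⟨?_, ?_, ?_, fun hne => ?_⟩, hrq.card_support_mul, by rw [e]; exact hs.card_support_mul⟩
      · rw [mul_assoc, ← mul_assoc q, ← hrq.commute.eq, mul_assoc r q, g1, mul_one, h1]
      · rw [e, mul_assoc, ← mul_assoc (d * q), ← hs.commute.eq, mul_assoc (c * r) (d * q), g2, mul_one, h2]
      · rw [hrq.support_mul, hcd.support_mul]
        exact Finset.union_subset_union h3 g3
      · obtain ⟨f, hf, hor⟩ := h4 hc.ne_one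
        have hfc : f ∈ c.support := mem_support.2 hf
        have hfd : d f = f := notMem_support.1 (Finset.disjoint_left.1 hcd' hfc)
        have hfq : q f = f := notMem_support.1 fun h => Finset.disjoint_left.1 hcd' hfc (g3 h)
        refine ⟨f, by rw [mul_apply, hfd]; exact hf, ?_⟩
        rcases hor with hor | hor
        · left; rw [mul_apply, hfq, hor]
        · right; rw [e, mul_apply, mul_apply d q, hfq, hfd, hor]
    obtain ⟨hq', hqx, hqc⟩ := hq.flip
    obtain ⟨k1, k1r, k1s⟩ := key q hq
    obtain ⟨k2, k2r, k2s⟩ := key (q * d) hq'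
    rw [hqx] at k2s
    obtain ⟨sr1, sr2⟩ := hsr
    obtain ⟨sq1, sq2⟩ := hsq
    rcases Int.units_eq_one_or (sign c) with sc | sc <;> rcases Int.units_eq_one_or (sign d) with sd | sd
    · refine ⟨r * q, k1, fun _ => ?_, fun h => absurd h (by rw [map_mul, sc, sd]; decide)⟩
      rw [k1r, k1s, sr1 sc, sq1 sd]
    · refine ⟨r * q, k1, fun h => absurd h (by rw [map_mul, sc, sd]; decide), fun _ => ?_⟩
      rw [k1r, k1s, sr1 sc, sq2 sd]; omega
    · refine ⟨r * q, k1, fun h => absurd h (by rw [map_mul, sc, sd]; decide), fun _ => ?_⟩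
      rw [k1r, k1s, sr2 sc, sq1 sd]; omega
    · refine ⟨r * (q * d), k2, fun _ => ?_, fun h => absurd h (by rw [map_mul, sc, sd]; decide)⟩
      have := sr2 sc
      have := sq2 sd
      omega

/-- Two cycles of length two. -/
def HasTwoPairs (b : Perm α) : Prop :=
  ∃ p q u v, p ≠ q ∧ u ≠ v ∧ p ≠ u ∧ p ≠ v ∧ q ≠ u ∧ q ≠ v ∧ b p = q ∧ b q = p ∧ b u = v ∧ b v = u

theorem hasTwoPairs_of_invol {r : Perm α} (hr : r * r = 1) (h : 4 ≤ r.support.card) : HasTwoPairs r := by
  have happ : ∀ y, r (r y) = y := fun y => by rw [← mul_apply, hr, one_apply]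
  obtain ⟨p, hp⟩ : r.support.Nonempty := Finset.card_pos.1 (by omega)
  obtain ⟨u, hu⟩ : (r.support \ {p, r p}).Nonempty := Finset.card_pos.1 (by
    have := Finset.le_card_sdiff ({p, r p} : Finset α) r.support
    have := Finset.card_le_two (a := p) (b := r p)
    omega)
  rw [Finset.mem_sdiff, Finset.mem_insert, Finset.mem_singleton, not_or] at hu
  rw [mem_support] at hp
  refine ⟨p, r p, u, r u, Ne.symm hp, Ne.symm (mem_support.1 hu.1), Ne.symm hu.2.1, ?_, Ne.symm hu.2.2, ?_, rfl,
    happ p, rfl, happ u⟩
  · intro h'; exact hu.2.2 (by rw [h', happ])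
  · intro h'; exact hu.2.1 (r.injective h').symm

/-- An involution with a transposition joining a fixed point. -/
theorem mul_swap_type {r : Perm α} (hr : r * r = 1) {f h : α} (hf : r f = f) (hh : r h ≠ h) :
    (r * swap f h).cycleType = 3 ::ₘ Multiset.replicate (r.support.card / 2 - 1) 2 ∧
      (6 ≤ r.support.card → HasTwoPairs (r * swap f h)) := by
  have happ : ∀ y, r (r y) = y := fun y => by rw [← mul_apply, hr, one_apply]
  set u := r h with hu
  set q := r * swap h u with hq
  have hfh : f ≠ h := fun e => hh (show r h = h from e ▸ hf)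
  have hfu : f ≠ u := fun e => hfh (r.injective (show r f = r h from hf.trans e))
  have hqh : q h = h := by rw [hq, mul_apply, swap_apply_left, hu, happ]
  have hqu : q u = u := by rw [hq, mul_apply, swap_apply_right]
  have hqf : q f = f := by rw [hq, mul_apply, swap_apply_of_ne_of_ne hfh hfu, hf]
  have hqo : ∀ y, y ≠ h → y ≠ u → q y = r y := fun y h1 h2 => by
    rw [hq, mul_apply, swap_apply_of_ne_of_ne h1 h2]
  have hqq : q * q = 1 := Equiv.ext fun y => by
    rw [mul_apply, one_apply]
    by_cases h1 : y = h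
    · rw [h1, hqh, hqh]
    by_cases h2 : y = u
    · rw [h2, hqu, hqu]
    rw [hqo y h1 h2, hqo _ (fun e => h2 (r.injective (e.trans (by rw [hu, happ]))))
      (fun e => h1 (r.injective e)), happ]
  have e : r * swap f h = q * (swap h u * swap h f) := by
    rw [hq, mul_assoc, ← mul_assoc (swap h u), swap_mul_self, one_mul, swap_comm]
  have h3 : IsThreeCycle (swap h u * swap h f) :=
    isThreeCycle_swap_mul_swap_same (Ne.symm hh) hfh.symm hfu.symm
  have hdis : Disjoint q (swap h u * swap h f) := fun y => by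
    by_cases h1 : y = h
    · left; rw [h1, hqh]
    by_cases h2 : y = u
    · left; rw [h2, hqu]
    by_cases h4 : y = f
    · left; rw [h4, hqf]
    · right; rw [mul_apply, swap_apply_of_ne_of_ne h1 h4, swap_apply_of_ne_of_ne h1 h2]
  obtain ⟨T, hT, hTc, -⟩ := cycleType_invol hqq
  have hcard : r.support.card = q.support.card + 2 := by
    have hr' : r = q * swap h u := by rw [hq, mul_assoc, swap_mul_self, mul_one]
    have hd' : Disjoint q (swap h u) := fun y => by
      by_cases h1 : y = h
      · left; rw [h1, hqh]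
      by_cases h2 : y = u
      · left; rw [h2, hqu]
      · right; exact swap_apply_of_ne_of_ne h1 h2
    conv_lhs => rw [hr']
    rw [hd'.card_support_mul, card_support_swap (Ne.symm hh)]
  refine ⟨?_, fun h6 => ?_⟩
  · rw [e, hdis.cycleType_mul, hT, h3.cycleType, show r.support.card / 2 - 1 = T by omega,
      add_comm, Multiset.singleton_add]
  · obtain ⟨p, p', w, w', h1, h2, h4, h5, h7, h8, e1, e2, e3, e4⟩ := hasTwoPairs_of_invol hqq (by omega)
    have hfix : ∀ y, q y ≠ y → (swap h u * swap h f) y = y := fun y hy => (hdis y).resolve_left hy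
    refine ⟨p, p', w, w', h1, h2, h4, h5, h7, h8, ?_, ?_, ?_, ?_⟩ <;> rw [e, mul_apply]
    · rw [hfix p (by rw [e1]; exact h1.symm), e1]
    · rw [hfix p' (by rw [e2]; exact h1), e2]
    · rw [hfix w (by rw [e3]; exact h2.symm), e3]
    · rw [hfix w' (by rw [e4]; exact h2), e4]

/-- Every even permutation `x` has an even `b` with two 2-cycles and `b`, `x b` conjugate. -/
theorem exists_partner (h5 : 5 ≤ Fintype.card α) {x : Perm α} (hx : sign x = 1) :
    ∃ b : Perm α, sign b = 1 ∧ HasTwoPairs b ∧ IsConj b (x * b) := by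
  classical
  obtain ⟨r, ⟨hrr, hss, hsub, hfp⟩, hsz⟩ := exists_good x
  have hcard := hsz.1 hx
  obtain ⟨T, hT, hTc, hTs⟩ := cycleType_invol hrr
  obtain ⟨S, hS, hSc, -⟩ := cycleType_invol hss
  have hST : S = T := by omega
  by_cases hx1 : x = 1
  · obtain ⟨P, -, hP⟩ := Finset.exists_subset_card_eq (s := (Finset.univ : Finset α)) (n := 4)
      (by rw [Finset.card_univ]; omega)
    obtain ⟨p, q, u, v, h1, h2, h3, h4, h5', h6, -⟩ := Finset.card_eq_four.1 hP
    refine ⟨swap p q * swap u v, by rw [map_mul, sign_swap h1, sign_swap h6]; rfl,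
      ⟨p, q, u, v, h1, h6, h2, h3, h4, h5', ?_, ?_, ?_, ?_⟩, by rw [hx1, one_mul]⟩
    · rw [mul_apply, swap_apply_of_ne_of_ne h2 h3, swap_apply_left]
    · rw [mul_apply, swap_apply_of_ne_of_ne h4 h5', swap_apply_right]
    · rw [mul_apply, swap_apply_left, swap_apply_of_ne_of_ne h3.symm h5'.symm]
    · rw [mul_apply, swap_apply_right, swap_apply_of_ne_of_ne h2.symm h4.symm]
  have hT0 : T ≠ 0 := by
    intro h0
    have h1 : r = 1 := card_support_eq_zero.1 (by omega)
    have h2 : x * r = 1 := card_support_eq_zero.1 (by omega)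
    rw [h1, mul_one] at h2
    exact hx1 h2
  rcases Nat.even_or_odd T with hev | hodd
  · refine ⟨r, by rw [hTs]; exact hev.neg_one_pow, hasTwoPairs_of_invol hrr ?_,
      isConj_iff_cycleType_eq.2 (by rw [hT, hS, hST])⟩
    obtain ⟨k, rfl⟩ := hev
    omega
  by_cases hT1 : T = 1
  · subst hT1
    obtain ⟨p, q, hpq, hr⟩ := card_support_eq_two.1 (show r.support.card = 2 by omega)
    obtain ⟨u, v, huv, hs⟩ := card_support_eq_two.1 (show (x * r).support.card = 2 by omega)
    by_cases hfix : ∃ g g', g ≠ g' ∧ r g = g ∧ r g' = g' ∧ (x * r) g = g ∧ (x * r) g' = g'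
    · obtain ⟨g, g', hgg, hg1, hg2, hg3, hg4⟩ := hfix
      have d1 : Disjoint r (swap g g') := fun y => by
        by_cases h1 : y = g
        · left; rw [h1, hg1]
        by_cases h2 : y = g'
        · left; rw [h2, hg2]
        · right; exact swap_apply_of_ne_of_ne h1 h2
      have d2 : Disjoint (x * r) (swap g g') := fun y => by
        by_cases h1 : y = g
        · left; rw [h1, hg3]
        by_cases h2 : y = g'
        · left; rw [h2, hg4]
        · right; exact swap_apply_of_ne_of_ne h1 h2
      have hinv : r * swap g g' * (r * swap g g') = 1 := by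
        rw [mul_assoc, ← mul_assoc (swap g g'), ← d1.commute.eq, mul_assoc r (swap g g'), swap_mul_self,
          mul_one, hrr]
      refine ⟨r * swap g g', by rw [map_mul, hTs, sign_swap hgg]; rfl, hasTwoPairs_of_invol hinv ?_, ?_⟩
      · rw [d1.card_support_mul, card_support_swap hgg]; omega
      · rw [isConj_iff_cycleType_eq, ← mul_assoc, d1.cycleType_mul, d2.cycleType_mul, hT, hS, hST]
    · push Not at hfix
      have hx' : x = swap u v * swap p q := by rw [← hs, ← hr, mul_assoc, hrr, mul_one]
      have hall : (Finset.univ : Finset α).card ≤ ({p, q, u, v} : Finset α).card + 1 := by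
        have : ((Finset.univ : Finset α) \ {p, q, u, v}).card ≤ 1 := by
          rw [Finset.card_le_one]
          intro g hg g' hg'
          simp only [Finset.mem_sdiff, Finset.mem_univ, true_and, Finset.mem_insert, Finset.mem_singleton,
            not_or] at hg hg'
          by_contra hne
          exact hfix g g' hne (by rw [hr, swap_apply_of_ne_of_ne hg.1 hg.2.1])
            (by rw [hr, swap_apply_of_ne_of_ne hg'.1 hg'.2.1])
            (by rw [hs, swap_apply_of_ne_of_ne hg.2.2.1 hg.2.2.2])
            (by rw [hs, swap_apply_of_ne_of_ne hg'.2.2.1 hg'.2.2.2])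
        have := Finset.le_card_sdiff ({p, q, u, v} : Finset α) Finset.univ
        omega
      rw [Finset.card_univ] at hall
      have hne : ∀ {A : Prop}, (A → ({p, q, u, v} : Finset α).card ≤ 3) → ¬ A := fun hA h => by
        have := hA h; omega
      have hpu : p ≠ u := hne fun h => by subst h; simp [Finset.card_le_three]
      have hpv : p ≠ v := hne fun h => by subst h; simp [Finset.card_le_three]
      have hqu : q ≠ u := hne fun h => by subst h; simp [Finset.card_le_three]
      have hqv : q ≠ v := hne fun h => by subst h; simp [Finset.card_le_three]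
      refine ⟨swap p u * swap q v, by rw [map_mul, sign_swap hpu, sign_swap hqv]; rfl,
        ⟨p, u, q, v, hpu, hqv, hpq, hpv, hqu.symm, huv, ?_, ?_, ?_, ?_⟩, isConj_iff.2 ⟨swap u v, ?_⟩⟩
      · rw [mul_apply, swap_apply_of_ne_of_ne hpq hpv, swap_apply_left]
      · rw [mul_apply, swap_apply_of_ne_of_ne hqu.symm huv, swap_apply_right]
      · rw [mul_apply, swap_apply_left, swap_apply_of_ne_of_ne hpv.symm huv.symm]
      · rw [mul_apply, swap_apply_right, swap_apply_of_ne_of_ne hpq.symm hqu]
      · rw [swap_inv, hx']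
        refine Equiv.ext fun y => ?_
        by_cases h1 : y = p
        · subst h1; simp [swap_apply_def, hpq, hpq.symm, hpu, hpu.symm, hpv, hpv.symm, hqu, hqu.symm, hqv, hqv.symm, huv, huv.symm]
        by_cases h2 : y = q
        · subst h2; simp [swap_apply_def, hpq, hpq.symm, hpu, hpu.symm, hpv, hpv.symm, hqu, hqu.symm, hqv, hqv.symm, huv, huv.symm]
        by_cases h3 : y = u
        · subst h3; simp [swap_apply_def, hpq, hpq.symm, hpu, hpu.symm, hpv, hpv.symm, hqu, hqu.symm, hqv, hqv.symm, huv, huv.symm]
        by_cases h4 : y = v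
        · subst h4; simp [swap_apply_def, hpq, hpq.symm, hpu, hpu.symm, hpv, hpv.symm, hqu, hqu.symm, hqv, hqv.symm, huv, huv.symm]
        · simp [swap_apply_def, h1, h2, h3, h4]
  -- at least three transpositions
  have hT3 : 3 ≤ T := by obtain ⟨k, rfl⟩ := hodd; omega
  obtain ⟨e0, he0, hor⟩ := hfp hx1
  have hne : r.support ≠ (x * r).support := fun he => by
    rcases hor with h | h
    · have : (x * r) e0 = e0 := notMem_support.1 (he ▸ notMem_support.2 h)
      rw [mul_apply, h] at this
      exact he0 this
    · have h' : r e0 = e0 := notMem_support.1 (he.symm ▸ notMem_support.2 h)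
      rw [mul_apply, h'] at h
      exact he0 h
  obtain ⟨f, hfs, hfr⟩ := Finset.not_subset.1 fun hle =>
    hne (Finset.eq_of_subset_of_card_le hle (by omega)).symm
  obtain ⟨h, hhr, hhs⟩ := Finset.not_subset.1 fun hle => hne (Finset.eq_of_subset_of_card_le hle (by omega))
  rw [mem_support] at hfs hhr
  rw [notMem_support] at hfr hhs
  obtain ⟨t1, t2⟩ := mul_swap_type hrr hfr hhr
  obtain ⟨u1, -⟩ := mul_swap_type hss hhs hfs
  refine ⟨r * swap f h, ?_, t2 (by omega), isConj_iff_cycleType_eq.2 ?_⟩
  · rw [map_mul, hTs, sign_swap (fun e => hhr (by rw [← e]; exact hfr)), hodd.neg_one_pow]; rfl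
  · rw [t1, ← mul_assoc, swap_comm, u1, hcard]

end Cfsg.Agent.AltOre
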